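import Cfsg.Agent.H966.RC.CCSBase
import Cfsg.Agent.H642.MonoSpor
import Cfsg.Agent.H642.MonoTits
import Cfsg.Agent.H568.SC.Mon
import Cfsg.Agent.H954.DR.CentB
import Cfsg.Agent.OrdDiv.Table
import Cfsg.Agent.S0000

/-!
# S4191, task CCS: sporadic groups and the Tits group (helper966)

Every sporadic group and the Tits group contain a self-centralizing element of prime order (the elements are those of
`H642.Mono*`, `H568.SC.Mon`, `H954.DR.CentB`).
-/

set_option autoImplicit false

namespace Cfsg.Agent.H966.RC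

open Cfsg Cfsg.Agent.H527.RC Cfsg.Agent.H361.SelfCent Cfsg.Agent.OrdDiv Cfsg.Agent.H642.Mono
open Cfsg.Agent.H604

universe u

set_option linter.unusedSectionVars false

variable {S : Type u} [Group S] [Finite S]

theorem self_m11 (h : Spor.IsoM11 S) : SelfC S := by
  have hc := table.spor S (.m11, 7920) (by decide) h
  obtain ⟨e⟩ := h
  refine .of hc (r := 11) (by norm_num) (by norm_num) (by norm_num) (by norm_num) (by norm_num)
    (cent_congr e (cent_eleven Spor.M11 m11_le ?_))
  rw [← Nat.card_congr e.toEquiv, hc]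
  norm_num

theorem self_m12 (h : Spor.IsoM12 S) : SelfC S := by
  have hc := table.spor S (.m12, 95040) (by decide) h
  obtain ⟨e⟩ := h
  refine .of hc (r := 11) (by norm_num) (by norm_num) (by norm_num) (by norm_num) (by norm_num)
    (cent_congr e (cent_eleven Spor.M12 m12_le ?_))
  rw [← Nat.card_congr e.toEquiv, hc]
  norm_num

theorem self_m22 (h : Spor.IsoM22 S) : SelfC S := by
  have hc := table.spor S (.m22, 443520) (by decide) h
  obtain ⟨e⟩ := h
  refine .of hc (r := 11) (by norm_num) (by norm_num) (by norm_num) (by norm_num) (by norm_num)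
    (cent_congr e (cent_eleven Spor.M22 m22_le ?_))
  rw [← Nat.card_congr e.toEquiv, hc]
  norm_num

theorem self_m23 (h : Spor.IsoM23 S) : SelfC S := by
  have hc := table.spor S (.m23, 10200960) (by decide) h
  obtain ⟨e⟩ := h
  refine .of hc (r := 11) (by norm_num) (by norm_num) (by norm_num) (by norm_num) (by norm_num)
    (cent_congr e (cent_eleven Spor.M23 m23_le ?_))
  rw [← Nat.card_congr e.toEquiv, hc]
  norm_num

theorem self_m24 (h : Spor.IsoM24 S) : SelfC S := by
  have hc := table.spor S (.m24, 244823040) (by decide) h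
  obtain ⟨e⟩ := h
  exact .of hc (r := 11) (by norm_num) (by norm_num) (by norm_num) (by norm_num) (by norm_num)
    (cent_congr e ⟨_, sit_M24.cent⟩)

theorem self_j1 (h : Spor.IsoJ1 S) : SelfC S := by
  have hc := table.spor S (.j1, 175560) (by decide) h
  obtain ⟨e⟩ := h
  refine .of hc (r := 7) (by norm_num) (by norm_num) (by norm_num) (by norm_num) (by norm_num) (cent_congr e ?_)
  have : Fact (Nat.Prime 7) := ⟨by norm_num⟩
  have hf : Finite Spor.J1 := Finite.of_equiv _ e.toEquiv
  obtain ⟨x, hx⟩ := exists_prime_orderOf_dvd_card' (G := Spor.J1) 7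
    (by rw [← Nat.card_congr e.toEquiv, hc]; norm_num)
  exact ⟨x, (Cfsg.Agent.H492.IMJ1.fus7 hx).1⟩

theorem self_j2 (h : Spor.IsoJ2 S) : SelfC S := by
  have hc := table.spor S (.j2, 604800) (by decide) h
  obtain ⟨e⟩ := h
  have hf : Finite Spor.J2 := Finite.of_equiv _ e.toEquiv
  exact .of hc (r := 7) (by norm_num) (by norm_num) (by norm_num) (by norm_num) (by norm_num) (cent_congr e j2_seven)

theorem self_j3 (h : Spor.IsoJ3 S) : SelfC S := by
  have hc := table.spor S (.j3, 50232960) (by decide) h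
  refine .of hc (r := 19) (by norm_num) (by norm_num) (by norm_num) (by norm_num) (by norm_num) ?_
  have : Fact (Nat.Prime 19) := ⟨by norm_num⟩
  obtain ⟨X⟩ : Nonempty (Sylow 19 S) := inferInstance
  obtain ⟨h1, h2, -⟩ := Cfsg.Agent.H95.JThree.nineteen h X
  exact cent_of_sub (by norm_num) h1 (by rw [h2])

theorem self_j4 (h : Spor.IsoJ4 S) : SelfC S := by
  have hc := table.spor S (.j4, 86775571046077562880) (by decide) h
  obtain ⟨e⟩ := h
  refine .of hc (r := 43) (by norm_num) (by norm_num) (by norm_num) (by norm_num) (by norm_num) (cent_congr e ?_)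
  have hf : Finite Spor.J4 := Finite.of_equiv _ e.toEquiv
  exact cent_of_all (by norm_num) (by rw [← Nat.card_congr e.toEquiv, hc]; norm_num)
    fun P hP => Cfsg.Agent.H370.JNorm.data (by decide) hP

theorem self_co1 (h : Spor.IsoCo1 S) : SelfC S := by
  have hc := table.spor S (.co1, 4157776806543360000) (by decide) h
  obtain ⟨e⟩ := h
  refine .of hc (r := 23) (by norm_num) (by norm_num) (by norm_num) (by norm_num) (by norm_num) (cent_congr e ?_)
  have hf : Finite Spor.Co1 := Finite.of_equiv _ e.toEquiv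
  exact ⟨_, (Cop.Conway.card_eq Cop.Conway.orderOf_s23 Cop.Conway.card_cent_s23).trans Cop.Conway.orderOf_s23⟩

theorem self_co2 (h : Spor.IsoCo2 S) : SelfC S := by
  have hc := table.spor S (.co2, 42305421312000) (by decide) h
  obtain ⟨e⟩ := h
  refine .of hc (r := 23) (by norm_num) (by norm_num) (by norm_num) (by norm_num) (by norm_num) (cent_congr e ?_)
  have : Fact (Nat.Prime 23) := ⟨by norm_num⟩
  have hf : Finite Spor.Co2 := Finite.of_equiv _ e.toEquiv
  obtain ⟨x, hx⟩ := exists_prime_orderOf_dvd_card' (G := Spor.Co2) 23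
    (by rw [← Nat.card_congr e.toEquiv, hc]; norm_num)
  exact ⟨x, Cop.Conway.self_co2 x hx⟩

theorem self_co3 (h : Spor.IsoCo3 S) : SelfC S := by
  have hc := table.spor S (.co3, 495766656000) (by decide) h
  obtain ⟨e⟩ := h
  refine .of hc (r := 23) (by norm_num) (by norm_num) (by norm_num) (by norm_num) (by norm_num) (cent_congr e ?_)
  have : Fact (Nat.Prime 23) := ⟨by norm_num⟩
  have hf : Finite Spor.Co3 := Finite.of_equiv _ e.toEquiv
  obtain ⟨x, hx⟩ := exists_prime_orderOf_dvd_card' (G := Spor.Co3) 23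
    (by rw [← Nat.card_congr e.toEquiv, hc]; norm_num)
  exact ⟨x, Cop.Conway.self_co3 x hx⟩

theorem self_mcl (h : Spor.IsoMcL S) : SelfC S := by
  have hc := table.spor S (.mcl, 898128000) (by decide) h
  exact .of hc (r := 11) (by norm_num) (by norm_num) (by norm_num) (by norm_num) (by norm_num)
    (cent_of_all (by norm_num) (by rw [hc]; norm_num) fun P hP => (Cfsg.Agent.H904.McLCent.eleven h P hP).1)

theorem self_hs (h : Spor.IsoHS S) : SelfC S := by
  have hc := table.spor S (.hs, 44352000) (by decide) h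
  have : Fact (Nat.Prime 11) := ⟨by norm_num⟩
  obtain ⟨x, hx⟩ := exists_prime_orderOf_dvd_card' (G := S) 11 (by rw [hc]; norm_num)
  exact .of hc (r := 11) (by norm_num) (by norm_num) (by norm_num) (by norm_num) (by norm_num)
    ⟨x, Cfsg.Agent.H904.HSIso.card_eleven h hx⟩

theorem self_suz (h : Spor.IsoSuz S) : SelfC S := by
  have hc := table.spor S (.suz, 448345497600) (by decide) h
  obtain ⟨e⟩ := h
  refine .of hc (r := 11) (by norm_num) (by norm_num) (by norm_num) (by norm_num) (by norm_num)
    (cent_congr e ⟨Cfsg.Agent.OddHalf.Table.SuzRep.x, ?_⟩)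
  have h1 : Subgroup.centralizer ({Cfsg.Agent.OddHalf.Table.SuzRep.x} : Set Spor.Suz) =
      Subgroup.zpowers Cfsg.Agent.OddHalf.Table.SuzRep.x := by
    apply le_antisymm
    · intro c hc
      obtain ⟨i, hi⟩ := Cfsg.Agent.OddHalf.Table.OutSuz.cent_x c (Subgroup.mem_centralizer_singleton_iff.1 hc)
      rw [hi]
      exact Subgroup.npow_mem_zpowers _ _
    · rw [Subgroup.zpowers_le]
      exact Subgroup.mem_centralizer_singleton_iff.2 rfl
  rw [h1, Nat.card_zpowers, Cfsg.Agent.OddHalf.Table.OutSuz.order_x]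

theorem self_he (h : Spor.IsoHe S) : SelfC S := by
  have hc := table.spor S (.he, 4030387200) (by decide) h
  have : Fact (Nat.Prime 17) := ⟨by norm_num⟩
  obtain ⟨x, hx⟩ := exists_prime_orderOf_dvd_card' (G := S) 17 (by rw [hc]; norm_num)
  exact .of hc (r := 17) (by norm_num) (by norm_num) (by norm_num) (by norm_num) (by norm_num)
    ⟨x, Cfsg.Agent.H547.SelfCent.HeRow.he h hc hx⟩

theorem self_ru (h : Spor.IsoRu S) : SelfC S := by
  have hc := table.spor S (.ru, 145926144000) (by decide) h
  obtain ⟨e⟩ := h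
  refine .of hc (r := 29) (by norm_num) (by norm_num) (by norm_num) (by norm_num) (by norm_num)
    (cent_congr (e.trans Cfsg.Agent.RuLat.Main.equiv) ⟨OddHalf.Table.OutRu.x, ?_⟩)
  have h1 : Subgroup.centralizer ({OddHalf.Table.OutRu.x} : Set SporadicB.RuOrder.H) =
      Subgroup.zpowers OddHalf.Table.OutRu.x := by
    apply le_antisymm
    · intro c hc
      obtain ⟨i, rfl⟩ := OddHalf.Table.OutRu.cent_x' c (Subgroup.mem_centralizer_singleton_iff.1 hc)
      exact pow_mem (Subgroup.mem_zpowers _) i
    · rw [Subgroup.zpowers_le]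
      exact Subgroup.mem_centralizer_singleton_iff.2 rfl
  rw [h1, Nat.card_zpowers, OddHalf.Table.OutRu.orderOf_x]

theorem self_on (h : Spor.IsoON S) : SelfC S := by
  have hc := table.spor S (.on, 460815505920) (by decide) h
  obtain ⟨e⟩ := h
  obtain ⟨x, -, hx⟩ := Cfsg.Agent.H474.ONC.on_nineteen
  exact .of hc (r := 19) (by norm_num) (by norm_num) (by norm_num) (by norm_num) (by norm_num) (cent_congr e ⟨x, hx⟩)

theorem self_ly (h : Spor.IsoLy S) : SelfC S := by
  have hc := table.spor S (.ly, 51765179004000000) (by decide) h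
  have : Fact (Nat.Prime 67) := ⟨by norm_num⟩
  obtain ⟨x, hx⟩ := exists_prime_orderOf_dvd_card' (G := S) 67 (by rw [hc]; norm_num)
  exact .of hc (r := 67) (by norm_num) (by norm_num) (by norm_num) (by norm_num) (by norm_num)
    ⟨x, Cfsg.Agent.H655.LySixtySeven.card_centralizer (fun _ _ _ _ => Cfsg.Agent.S0000.result) h hx⟩

theorem self_fi22 (h : Spor.IsoFi22 S) : SelfC S := by
  have hc := table.spor S (.fi22, 64561751654400) (by decide) h
  obtain ⟨e⟩ := h
  have hf : Finite Spor.Fi22 := Finite.of_equiv _ e.toEquiv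
  have : Fact (Nat.Prime 13) := ⟨by norm_num⟩
  obtain ⟨x, hx⟩ := exists_prime_orderOf_dvd_card' (G := Spor.Fi22) 13 (by
    rw [← Nat.card_congr e.toEquiv, hc]; norm_num)
  exact .of hc (r := 13) (by norm_num) (by norm_num) (by norm_num) (by norm_num) (by norm_num)
    (cent_congr e ⟨x, Cfsg.Agent.H713.Spor.Fi22.cent_13 (MulEquiv.refl Spor.Fi22) hx⟩)

theorem self_fi23 (h : Spor.IsoFi23 S) : SelfC S := by
  have hc := table.spor S (.fi23, 4089470473293004800) (by decide) h
  obtain ⟨e⟩ := h
  have hf : Finite Spor.Fi23 := Finite.of_equiv _ e.toEquiv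
  refine .of hc (r := 23) (by norm_num) (by norm_num) (by norm_num) (by norm_num) (by norm_num) (cent_congr e
    (cent_of_all (by norm_num) (by rw [← Nat.card_congr e.toEquiv, hc]; norm_num) fun P hP => ?_))
  rw [(Cfsg.Agent.H839.Fi23.twentythree_main P hP).2, hP]

theorem self_fi24 (h : Spor.IsoFi24' S) : SelfC S := by
  have hc := table.spor S (.fi24, 1255205709190661721292800) (by decide) h
  obtain ⟨e⟩ := h
  have hf : Finite Spor.Fi24 := Cfsg.Agent.R08.FiTwentyFour.finite_Fi24
  refine .of hc (r := 29) (by norm_num) (by norm_num) (by norm_num) (by norm_num) (by norm_num)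
    (cent_congr e (cent_sub sit_Fi24 (by norm_num) (commutator Spor.Fi24) ?_))
  have h2 : Nat.card S = Nat.card (commutator Spor.Fi24) := Nat.card_congr e.toEquiv
  rw [← h2, hc]
  norm_num

theorem self_hn (h : Spor.IsoHN S) : SelfC S := by
  have hc := table.spor S (.hn, 273030912000000) (by decide) h
  obtain ⟨e⟩ := h
  obtain ⟨x, -, hx⟩ := Cfsg.Agent.H845.HNNineteen.hn_nineteen
  exact .of hc (r := 19) (by norm_num) (by norm_num) (by norm_num) (by norm_num) (by norm_num) (cent_congr e ⟨x, hx⟩)

theorem self_th (h : Spor.IsoTh S) : SelfC S := by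
  have hc0 := table.spor S (.th, 90745943887872000) (by decide) h
  obtain ⟨e⟩ := h
  have hf : Finite Spor.Th := Finite.of_equiv _ e.toEquiv
  have hc : Nat.card Spor.Th = 90745943887872000 := by rw [← Nat.card_congr e.toEquiv, hc0]
  have : Fact (Nat.Prime 19) := ⟨by norm_num⟩
  obtain ⟨x, hx⟩ := exists_prime_orderOf_dvd_card' (G := Spor.Th) 19 (by rw [hc]; norm_num)
  refine .of hc0 (r := 19) (by norm_num) (by norm_num) (by norm_num) (by norm_num) (by norm_num) (cent_congr e ⟨x, ?_⟩)
  have h1 : ∀ p : ℕ, p.Prime → p ∣ Nat.card (Subgroup.centralizer ({x} : Set Spor.Th)) → p = 19 := by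
    intro p hp hpd
    by_contra hne
    have : Fact p.Prime := ⟨hp⟩
    obtain ⟨y, hy⟩ := exists_prime_orderOf_dvd_card' p hpd
    have hyG : orderOf (y : Spor.Th) = p := by rw [Subgroup.orderOf_coe, hy]
    have hy1 : (y : Spor.Th) ≠ 1 := by
      intro h1
      rw [h1, orderOf_one] at hyG
      exact hp.one_lt.ne hyG
    refine Cfsg.Agent.H574.RowTh.th_nineteen hy1 (by
      rw [hyG]
      intro h2
      exact hne ((Nat.prime_dvd_prime_iff_eq (by norm_num) hp).1 h2).symm) ?_
    have hxy : x ∈ Subgroup.centralizer ({(y : Spor.Th)} : Set Spor.Th) := by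
      rw [Subgroup.mem_centralizer_singleton_iff]
      exact (Subgroup.mem_centralizer_singleton_iff.1 y.2).symm
    rw [← hx]
    exact Subgroup.orderOf_dvd_natCard _ hxy
  obtain ⟨k, hk⟩ : ∃ k, Nat.card (Subgroup.centralizer ({x} : Set Spor.Th)) = 19 ^ k :=
    ⟨_, Nat.eq_prime_pow_of_unique_prime_dvd Nat.card_pos.ne' (fun {d} hd hdd => h1 d hd hdd)⟩
  have h19 : 19 ∣ Nat.card (Subgroup.centralizer ({x} : Set Spor.Th)) := by
    rw [← hx]
    exact Subgroup.orderOf_dvd_natCard _ (Subgroup.mem_centralizer_singleton_iff.2 rfl)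
  have hG : Nat.card (Subgroup.centralizer ({x} : Set Spor.Th)) ∣ 90745943887872000 := by
    rw [← hc]; exact Subgroup.card_subgroup_dvd_card _
  rw [hk] at h19 hG ⊢
  have hk1 : k = 1 := by
    rcases k with _ | _ | k
    · norm_num at h19
    · rfl
    · exfalso
      have : 19 ^ 2 ∣ 90745943887872000 := (pow_dvd_pow 19 (by omega)).trans hG
      norm_num at this
  rw [hk1, pow_one]

theorem self_b [IsSimpleGroup S] (h : Spor.IsoB S) : SelfC S := by
  have hc := table.spor S (.b, 4154781481226426191177580544000000) (by decide) h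
  have : Fact (Nat.Prime 47) := ⟨by norm_num⟩
  obtain ⟨x, hx⟩ := exists_prime_orderOf_dvd_card' (G := S) 47 (by rw [hc]; norm_num)
  exact .of hc (r := 47) (by norm_num) (by norm_num) (by norm_num) (by norm_num) (by norm_num)
    ⟨x, Cfsg.Agent.H954.DR.CentB.cent47 h hx⟩

theorem self_m (h : Spor.IsoM S) : SelfC S := by
  have hc := table.spor S (.m, 808017424794512875886459904961710757005754368000000000) (by decide) h
  obtain ⟨e⟩ := h
  have hf : Finite Spor.Monster := Finite.of_equiv _ e.toEquiv
  have : Fact (Nat.Prime 59) := ⟨by norm_num⟩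
  obtain ⟨x, hx⟩ := exists_prime_orderOf_dvd_card' (G := Spor.Monster) 59 (by
    rw [← Nat.card_congr e.toEquiv, hc]; norm_num)
  exact .of hc (r := 59) (by norm_num) (by norm_num) (by norm_num) (by norm_num) (by norm_num)
    (cent_congr e ⟨x, Cfsg.Agent.H568.SC.Mon.sc (fun _ _ _ _ => Cfsg.Agent.S0000.result) x hx⟩)

theorem self_tits [IsSimpleGroup S] (h : Lie.IsoTits S) : SelfC S := by
  have hc := table.spor S (.tits, 17971200) (by decide) h
  have : Fact (Nat.Prime 13) := ⟨by norm_num⟩
  obtain ⟨x, hx⟩ := exists_prime_orderOf_dvd_card' (G := S) 13 (by rw [hc]; norm_num)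
  exact .of hc (r := 13) (by norm_num) (by norm_num) (by norm_num) (by norm_num) (by norm_num)
    ⟨x, Cfsg.Agent.H547.SelfCent.tits h inferInstance (Cfsg.Agent.H393.Iso.na_tits h) hx⟩

theorem self_spor [IsSimpleGroup S] (h : IsSporadicGroup S) : SelfC S := by
  rcases h with h | h | h | h | h | h | h | h | h | h | h | h | h | h | h | h | h | h | h | h | h | h | h | h | h | h
  · exact self_m11 h
  · exact self_m12 h
  · exact self_m22 h
  · exact self_m23 h
  · exact self_m24 h
  · exact self_j1 h
  · exact self_j2 h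
  · exact self_j3 h
  · exact self_j4 h
  · exact self_co1 h
  · exact self_co2 h
  · exact self_co3 h
  · exact self_mcl h
  · exact self_hs h
  · exact self_suz h
  · exact self_he h
  · exact self_ru h
  · exact self_on h
  · exact self_ly h
  · exact self_fi22 h
  · exact self_fi23 h
  · exact self_fi24 h
  · exact self_hn h
  · exact self_th h
  · exact self_b h
  · exact self_m h

/-- **Task CCS** (sporadic groups). -/
theorem cc_sporadic {S : Type u} [Group S] [Finite S] [IsSimpleGroup S] (h : IsSporadicGroup S) {p : ℕ}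
    (hp : p.Prime) : CC p S := (self_spor h).cc hp

/-- **Task CCS** (the Tits group). -/
theorem cc_tits {S : Type u} [Group S] [Finite S] [IsSimpleGroup S] (h : Lie.IsoTits S) {p : ℕ}
    (hp : p.Prime) : CC p S := (self_tits h).cc hp

end Cfsg.Agent.H966.RC
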