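import Cfsg.Agent.H527.RC.Stmts
import Cfsg.Agent.H361.SelfCent

/-!
# S4191, task CCS: groups with a self-centralizing element of prime order (helper966)
-/

set_option autoImplicit false

namespace Cfsg.Agent.H966.RC

open Subgroup Cfsg.Agent.H527.RC Cfsg.Agent.H361.SelfCent

/-- a self-centralizing element of odd prime order `r`, `r² ∤ |S|`, `|S|` even -/
def SelfC (S : Type*) [Group S] : Prop :=
  ∃ r : ℕ, r.Prime ∧ r ≠ 2 ∧ 2 ∣ Nat.card S ∧ r ∣ Nat.card S ∧ ¬ r ^ 2 ∣ Nat.card S ∧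
    ∃ x : S, Nat.card (centralizer ({x} : Set S)) = r

theorem SelfC.of {S : Type*} [Group S] {r n : ℕ} (hn : Nat.card S = n) (hr : r.Prime) (h2 : r ≠ 2) (h2n : 2 ∣ n)
    (hrn : r ∣ n) (hr2 : ¬ r ^ 2 ∣ n) (h : ∃ x : S, Nat.card (centralizer ({x} : Set S)) = r) : SelfC S :=
  ⟨r, hr, h2, by rwa [hn], by rwa [hn], by rwa [hn], h⟩

theorem SelfC.cc {S : Type*} [Group S] [Finite S] (h : SelfC S) {p : ℕ} (hp : p.Prime) : CC p S := by
  obtain ⟨r, hr, hr2, h2, hrd, hr2d, x, hx⟩ := h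
  have hox : orderOf x ∣ r := by
    rw [← hx]
    exact Subgroup.orderOf_dvd_natCard _ (mem_centralizer_singleton_iff.2 rfl)
  by_cases hpr : p = r
  · subst hpr
    obtain ⟨m, hm⟩ := hrd
    have hm1 : m ≠ 1 := by
      rintro rfl
      rw [hm, mul_one] at h2
      exact hr2 ((Nat.prime_dvd_prime_iff_eq Nat.prime_two hr).1 h2).symm
    have hs : Sit S p m x := ⟨hr, hm, fun hd => hr2d (by
      rw [hm, pow_two]
      exact Nat.mul_dvd_mul_left p hd), hx⟩
    have : Fact (Nat.Prime 2) := ⟨Nat.prime_two⟩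
    obtain ⟨y, hy⟩ := exists_prime_orderOf_dvd_card' (G := S) 2 h2
    refine ⟨y, ?_, fun hd => ?_⟩
    · rw [hy]
      intro h3
      exact hr2 ((Nat.prime_dvd_prime_iff_eq hr Nat.prime_two).1 h3)
    · have : Fact p.Prime := ⟨hr⟩
      obtain ⟨t, ht⟩ := exists_prime_orderOf_dvd_card' p hd
      have ht' : orderOf (t : S) = p := by rw [Subgroup.orderOf_coe, ht]
      have h3 := (hs.cent_of_orderOf hm1 ht').cent
      have h4 : orderOf y ∣ p := by
        rw [← h3]
        exact Subgroup.orderOf_dvd_natCard _ (mem_centralizer_singleton_iff.2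
          (mem_centralizer_singleton_iff.1 t.2).symm)
      rw [hy] at h4
      exact hr2 ((Nat.prime_dvd_prime_iff_eq Nat.prime_two hr).1 h4).symm
  · refine ⟨x, fun hd => ?_, fun hd => ?_⟩
    · exact hpr ((Nat.prime_dvd_prime_iff_eq hp hr).1 (hd.trans hox))
    · rw [hx] at hd
      exact hpr ((Nat.prime_dvd_prime_iff_eq hp hr).1 hd)

end Cfsg.Agent.H966.RC
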